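import Mathlib

/-!
# The points perpendicular to a singular vector in dimensions five and six

Computations in the standard models `-(s x₀² + x₁² + ⋯)`: the classes of the points perpendicular to the standard
singular vector under orthogonality, the possible sizes of unions of classes, and the totals.
-/

set_option autoImplicit false

namespace CfsgLib.FischerOrth.SmallDim

/-- The vectors. -/
abbrev Vec (n : ℕ) := Fin n → ZMod 3

/-- The form, computably. -/
def bf (n : ℕ) (s : ZMod 3) (u v : Vec n) : ZMod 3 :=
  -∑ i, (if i.val = 0 then s else 1) * (u i * v i)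

/-- The points perpendicular to `w`. -/
def pts (n : ℕ) (s : ZMod 3) (w : Vec n) : Finset (Vec n) :=
  Finset.univ.filter fun v => bf n s v v = -1 ∧ bf n s w v = 0

/-- What is needed of a standard singular vector `w` with a labelling `ℓ` of its classes; `bad` lists the possible
sizes (halved) of proper unions of classes. -/
structure Model (n : ℕ) (s : ZMod 3) (w : Vec n) (ℓ : Vec n → ZMod 3) (bad : List ℕ) (k l : ℕ) : Prop where
  sing : bf n s w w = 0 ∧ w ≠ 0
  reach : ∀ v, bf n s v v = 0 → v ≠ 0 →
    bf n s w v ≠ 0 ∨ ∃ z, bf n s z z = 0 ∧ bf n s w z ≠ 0 ∧ bf n s z v ≠ 0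
  conn : ∀ a ∈ pts n s w, ∀ b ∈ pts n s w, ℓ a = ℓ b →
    bf n s a b = 0 ∨ ∃ z ∈ pts n s w, bf n s a z = 0 ∧ bf n s z b = 0
  size : ∀ T : ZMod 3 → Bool, (∃ a ∈ pts n s w, T (ℓ a) = true) → (∃ a ∈ pts n s w, T (ℓ a) = false) →
    ∃ m ∈ bad, ((pts n s w).filter fun a => T (ℓ a) = true).card = 2 * m
  total : (Finset.univ.filter fun v => bf n s v v = -1).card = 2 * k
  one : ∃ a, bf n s a a = -1 ∧ (Finset.univ.filter fun v => bf n s v v = -1 ∧ bf n s a v = 0).card = 2 * l

set_option maxRecDepth 8000 in
set_option maxHeartbeats 8000000 in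
theorem model_five_neg : Model 5 (-1) ![1, 1, 0, 0, 0] (fun _ => 0) [] 36 15 where
  sing := by decide +kernel
  reach := by decide +kernel
  conn := by decide +kernel
  size := by decide +kernel
  total := by decide +kernel
  one := ⟨![0, 0, 0, 0, 1], by decide +kernel, by decide +kernel⟩

set_option maxRecDepth 8000 in
set_option maxHeartbeats 8000000 in
theorem model_five_one : Model 5 1 ![1, 1, 1, 0, 0] (fun v => v 3 * v 4) [6, 12] 45 12 where
  sing := by decide +kernel
  reach := by decide +kernel
  conn := by decide +kernel
  size := by decide +kernel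
  total := by decide +kernel
  one := ⟨![0, 0, 0, 0, 1], by decide +kernel, by decide +kernel⟩

set_option maxRecDepth 8000 in
set_option maxHeartbeats 8000000 in
theorem model_six_one : Model 6 1 ![1, 1, 1, 0, 0, 0] (fun _ => 0) [] 126 45 where
  sing := by decide +kernel
  reach := by decide +kernel
  conn := by decide +kernel
  size := by decide +kernel
  total := by decide +kernel
  one := ⟨![0, 0, 0, 0, 0, 1], by decide +kernel, by decide +kernel⟩

set_option maxRecDepth 8000 in
set_option maxHeartbeats 8000000 in
theorem model_six_neg : Model 6 (-1) ![1, 1, 0, 0, 0, 0] (fun v => v 2 * v 3 * v 4 * v 5) [12, 24] 117 36 where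
  sing := by decide +kernel
  reach := by decide +kernel
  conn := by decide +kernel
  size := by decide +kernel
  total := by decide +kernel
  one := ⟨![0, 0, 0, 0, 0, 1], by decide +kernel, by decide +kernel⟩

end CfsgLib.FischerOrth.SmallDim
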